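import Groth.Agent.Lib.Pushout6.BaseChange
import Groth.Agent.Lib.Pushout6.Exists
import Groth.Agent.Lib.RingedPush4.BaseChange
import Groth.Prelude.Def_W4c3jacimperfPinch

/-!
# Base change of a pinching whose cokernel is projective over the base
-/

universe u

open CategoryTheory Limits AlgebraicGeometry Opposite TopologicalSpace
open scoped TensorProduct

namespace GrothLib.Pushout6

noncomputable section

section
variable {R P A B C : Type u} [CommRing R] [CommRing P] [CommRing A] [CommRing B] [CommRing C]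
  [Algebra R P] [Algebra R A] [Algebra R B] [Algebra R C]
  {f : P →ₐ[R] B} {g : P →ₐ[R] A} {q : B →ₐ[R] C} {p : A →ₐ[R] C}

theorem fibreSquare_tensor_of_section (h : Misc6.FibreSquare f.toRingHom g.toRingHom q.toRingHom p.toRingHom)
    (R' : Type u) [CommRing R'] [Algebra R R'] (s : C →ₗ[R] B × A) (hs : (diff q p).comp s = LinearMap.id) :
    Misc6.FibreSquare (Algebra.TensorProduct.map f (AlgHom.id R R')).toRingHom
      (Algebra.TensorProduct.map g (AlgHom.id R R')).toRingHom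
      (Algebra.TensorProduct.map q (AlgHom.id R R')).toRingHom
      (Algebra.TensorProduct.map p (AlgHom.id R R')).toRingHom := by
  let e := TensorProduct.prodLeft R R B A R'
  have hincl : ∀ t, e ((incl f g).rTensor R' t) =
      (Algebra.TensorProduct.map f (AlgHom.id R R') t, Algebra.TensorProduct.map g (AlgHom.id R R') t) := by
    intro t
    induction t with
    | zero => simp; rfl
    | tmul x r => simp [incl, e]
    | add x y hx hy => simp only [map_add, hx, hy, Prod.mk_add_mk]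
  have hdiff : ∀ t, (diff q p).rTensor R' t =
      Algebra.TensorProduct.map q (AlgHom.id R R') (e t).1 - Algebra.TensorProduct.map p (AlgHom.id R R') (e t).2 := by
    intro t
    induction t with
    | zero => simp
    | tmul x r =>
      obtain ⟨b, a⟩ := x
      simp [diff, e, TensorProduct.add_tmul, TensorProduct.neg_tmul, sub_eq_add_neg]
    | add x y hx hy => rw [map_add, hx, hy, map_add, Prod.fst_add, Prod.snd_add, map_add, map_add]; abel
  have hinj : Function.Injective ((incl f g).rTensor R') := by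
    let π : B × A →ₗ[R] B × A := LinearMap.id - s.comp (diff q p)
    have hπ : ∀ x, π x ∈ LinearMap.range (incl f g) := fun x => (exact_incl_diff h (π x)).1 (by
      simp [π, show ∀ c, diff q p (s c) = c from fun c => congr($hs c)])
    let ret : B × A →ₗ[R] P := (LinearEquiv.ofInjective (incl f g) (incl_injective h)).symm.toLinearMap.comp
      (π.codRestrict _ hπ)
    have hret : ret.comp (incl f g) = LinearMap.id := LinearMap.ext fun x => by
      apply incl_injective h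
      have hd : diff q p (incl f g x) = 0 := (exact_incl_diff h).apply_apply_eq_zero x
      have h1 : incl f g (ret (incl f g x)) = π (incl f g x) :=
        congrArg Subtype.val ((LinearEquiv.ofInjective (incl f g) (incl_injective h)).apply_symm_apply _)
      rw [LinearMap.comp_apply, h1]
      simp [π, hd]
    intro x y hxy
    have h1 := congrArg (ret.rTensor R') hxy
    rwa [← LinearMap.rTensor_comp_apply, ← LinearMap.rTensor_comp_apply, hret, LinearMap.rTensor_id] at h1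
  refine ⟨?_, fun x hx₁ hx₂ => ?_, fun b a hba => ?_, ?_⟩
  · refine congrArg AlgHom.toRingHom (?_ : (Algebra.TensorProduct.map q (AlgHom.id R R')).comp
      (Algebra.TensorProduct.map f (AlgHom.id R R')) = (Algebra.TensorProduct.map p (AlgHom.id R R')).comp
      (Algebra.TensorProduct.map g (AlgHom.id R R')))
    rw [← Algebra.TensorProduct.map_comp, ← Algebra.TensorProduct.map_comp,
      show q.comp f = p.comp g from AlgHom.ext fun x => congr($(h.w) x)]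
  · refine hinj ?_
    apply e.injective
    rw [hincl, map_zero, map_zero]
    exact Prod.ext hx₁ hx₂
  · obtain ⟨x, hx⟩ := (rTensor_exact R' (exact_incl_diff h) (diff_surjective h) (e.symm (b, a))).mp (by
      rw [hdiff, LinearEquiv.apply_symm_apply]
      exact sub_eq_zero.mpr hba)
    have hx' := congrArg e hx
    rw [hincl, LinearEquiv.apply_symm_apply] at hx'
    exact ⟨x, congrArg Prod.fst hx', congrArg Prod.snd hx'⟩
  · exact TensorProduct.map_surjective h.surj Function.surjective_id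


/-- An injective leg with projective cokernel gives a section of the difference map. -/
theorem exists_section_diff (hp : Function.Surjective p) (hq : Function.Injective q)
    [Module.Projective R (C ⧸ LinearMap.range q.toLinearMap)] :
    ∃ s : C →ₗ[R] B × A, (diff q p).comp s = LinearMap.id := by
  let π := (LinearMap.range q.toLinearMap).mkQ
  have hsur : Function.Surjective (π.comp p.toLinearMap) := (Submodule.mkQ_surjective _).comp hp
  obtain ⟨l, hl⟩ := Module.projective_lifting_property (π.comp p.toLinearMap) LinearMap.id hsur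
  let r : C →ₗ[R] C := LinearMap.id - p.toLinearMap.comp (l.comp π)
  have hr : ∀ c, r c ∈ LinearMap.range q.toLinearMap := fun c => by
    rw [← Submodule.Quotient.mk_eq_zero]
    have h1 : π (p.toLinearMap (l (π c))) = π c := congr($hl (π c))
    change π (c - p.toLinearMap (l (π c))) = 0
    rw [map_sub, h1, sub_self]
  let e := LinearEquiv.ofInjective q.toLinearMap hq
  refine ⟨LinearMap.prod (e.symm.toLinearMap.comp (r.codRestrict _ hr)) (-(l.comp π)), LinearMap.ext fun c => ?_⟩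
  have h1 : q.toLinearMap (e.symm (r.codRestrict _ hr c)) = r c := congrArg Subtype.val (e.apply_symm_apply _)
  show q.toLinearMap (e.symm (r.codRestrict _ hr c)) + -p.toLinearMap (-(l (π c))) = c
  rw [h1, map_neg, neg_neg]
  simp [r]

end

variable {X Y Z P S S' X' Y' Z' P' : Scheme.{u}} {i : Z ⟶ X} {j : Z ⟶ Y} [IsClosedImmersion i]
  {a : X ⟶ P} {b : Y ⟶ P} (r : P ⟶ S) (g : S' ⟶ S)
  {i' : Z' ⟶ X'} {j' : Z' ⟶ Y'} {a' : X' ⟶ P'} {b' : Y' ⟶ P'}
  {πX : X' ⟶ X} {πY : Y' ⟶ Y} {πZ : Z' ⟶ Z} {πP : P' ⟶ P} {sP : P' ⟶ S'}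

/-- Assembling local data from an affine chart given by algebras. -/
theorem localData_of_sq (hP' : IsPullback πP sP r g) (hX' : IsPullback πX a' a πP) (hY' : IsPullback πY b' b πP)
    (hZ' : IsPullback πZ i' i πX) (hj₁ : j' ≫ πY = πZ ≫ j) (hj₂ : i' ≫ a' = j' ≫ b')
    {T : S.Opens} (hT : IsAffineOpen T) {T' : S'.Opens} (hT' : IsAffineOpen T') (hTT' : T' ≤ g ⁻¹ᵁ T)
    [Algebra Γ(S, T) Γ(S', T')] (halg : algebraMap Γ(S, T) Γ(S', T') = (g.appLE T T' hTT').hom)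
    {P₀ A₀ B₀ C₀ : Type u} [CommRing P₀] [CommRing A₀] [CommRing B₀] [CommRing C₀]
    [Algebra Γ(S, T) P₀] [Algebra Γ(S, T) A₀] [Algebra Γ(S, T) B₀] [Algebra Γ(S, T) C₀]
    (fA : P₀ →ₐ[Γ(S, T)] A₀) (fB : P₀ →ₐ[Γ(S, T)] B₀) (fq : B₀ →ₐ[Γ(S, T)] C₀) (fp : A₀ →ₐ[Γ(S, T)] C₀)
    (hten : Misc6.FibreSquare (Algebra.TensorProduct.map fB (AlgHom.id Γ(S, T) Γ(S', T'))).toRingHom
      (Algebra.TensorProduct.map fA (AlgHom.id Γ(S, T) Γ(S', T'))).toRingHom
      (Algebra.TensorProduct.map fq (AlgHom.id Γ(S, T) Γ(S', T'))).toRingHom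
      (Algebra.TensorProduct.map fp (AlgHom.id Γ(S, T) Γ(S', T'))).toRingHom)
    (m : Spec (CommRingCat.of P₀) ⟶ P) [IsOpenImmersion m]
    (mA : Spec (CommRingCat.of A₀) ⟶ X) [IsOpenImmersion mA]
    (mB : Spec (CommRingCat.of B₀) ⟶ Y) [IsOpenImmersion mB]
    (mC : Spec (CommRingCat.of C₀) ⟶ Z) [IsOpenImmersion mC]
    (hm : m ≫ r = Spec.map (CommRingCat.ofHom (algebraMap Γ(S, T) P₀)) ≫ hT.fromSpec)
    (hmA : mA ≫ a = Spec.map (CommRingCat.ofHom fA.toRingHom) ≫ m)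
    (hmB : mB ≫ b = Spec.map (CommRingCat.ofHom fB.toRingHom) ≫ m)
    (hmC : mC ≫ i = Spec.map (CommRingCat.ofHom fp.toRingHom) ≫ mA)
    (hmCj : mC ≫ j = Spec.map (CommRingCat.ofHom fq.toRingHom) ≫ mB)
    (hrA : a ⁻¹' Set.range m = Set.range mA) (hrB : b ⁻¹' Set.range m = Set.range mB)
    (hrC : i ⁻¹' Set.range mA = Set.range mC)
    (x : P') (hx : πP x ∈ Set.range m) (hx' : sP x ∈ T') : Nonempty (LocalData i' j' a' b' x) := by
  have hcomp : ∀ {Q₀ : Type u} [CommRing Q₀] [Algebra Γ(S, T) Q₀] {N₀ : Type u} [CommRing N₀]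
      [Algebra Γ(S, T) N₀] (φ : N₀ →ₐ[Γ(S, T)] Q₀),
      CommRingCat.ofHom (algebraMap Γ(S, T) N₀) ≫ CommRingCat.ofHom φ.toRingHom =
        CommRingCat.ofHom (algebraMap Γ(S, T) Q₀) := fun φ => CommRingCat.hom_ext φ.comp_algebraMap
  have hA : mA ≫ a ≫ r = Spec.map (CommRingCat.ofHom (algebraMap Γ(S, T) A₀)) ≫ hT.fromSpec := by
    rw [reassoc_of% hmA, hm, ← Category.assoc, ← Spec.map_comp, hcomp]
  have hB : mB ≫ b ≫ r = Spec.map (CommRingCat.ofHom (algebraMap Γ(S, T) B₀)) ≫ hT.fromSpec := by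
    rw [reassoc_of% hmB, hm, ← Category.assoc, ← Spec.map_comp, hcomp]
  have hC : mC ≫ i ≫ a ≫ r = Spec.map (CommRingCat.ofHom (algebraMap Γ(S, T) C₀)) ≫ hT.fromSpec := by
    rw [reassoc_of% hmC, hA, ← Category.assoc, ← Spec.map_comp, hcomp]
  have hj₂' : j' ≫ b' ≫ sP = i' ≫ a' ≫ sP := by rw [← Category.assoc, ← hj₂, Category.assoc]
  obtain ⟨w, hwo, hw₁, hw₂, hwr⟩ := exists_piece hP' hT hT' hTT' P₀ halg m hm
  obtain ⟨u, huo, hu₁, hu₂, hur⟩ := exists_piece (hX'.paste_vert hP') hT hT' hTT' A₀ halg mA hA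
  obtain ⟨v, hvo, hv₁, hv₂, hvr⟩ := exists_piece (hY'.paste_vert hP') hT hT' hTT' B₀ halg mB hB
  obtain ⟨z, hzo, hz₁, hz₂, hzr⟩ := exists_piece (hZ'.paste_vert (hX'.paste_vert hP')) hT hT' hTT' C₀ halg mC hC
  exact ⟨{
    P₀ := CommRingCat.of (P₀ ⊗[Γ(S, T)] Γ(S', T'))
    B₀ := CommRingCat.of (B₀ ⊗[Γ(S, T)] Γ(S', T'))
    A₀ := CommRingCat.of (A₀ ⊗[Γ(S, T)] Γ(S', T'))
    C₀ := CommRingCat.of (C₀ ⊗[Γ(S, T)] Γ(S', T'))
    f₀ := CommRingCat.ofHom (Algebra.TensorProduct.map fB (AlgHom.id Γ(S, T) Γ(S', T'))).toRingHom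
    g₀ := CommRingCat.ofHom (Algebra.TensorProduct.map fA (AlgHom.id Γ(S, T) Γ(S', T'))).toRingHom
    q₀ := CommRingCat.ofHom (Algebra.TensorProduct.map fq (AlgHom.id Γ(S, T) Γ(S', T'))).toRingHom
    p₀ := CommRingCat.ofHom (Algebra.TensorProduct.map fp (AlgHom.id Γ(S, T) Γ(S', T'))).toRingHom
    sq := hten
    u := u, v := v, z := z, w := w
    openU := huo, openV := hvo, openZ := hzo, openW := hwo
    ha := piece_comp hP' a a' hX'.w.symm rfl fA hmA hu₁ hw₁ hu₂ hw₂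
    hb := piece_comp hP' b b' hY'.w.symm rfl fB hmB hv₁ hw₁ hv₂ hw₂
    hi := piece_comp (hX'.paste_vert hP') i i' hZ'.w.symm rfl fp hmC hz₁ hu₁ hz₂ hu₂
    hj := piece_comp (hY'.paste_vert hP') j j' hj₁ hj₂' fq hmCj hz₁ hv₁ hz₂ hv₂
    hu := piece_range a a' hX'.w.symm rfl hrA _ hur hwr
    hv := piece_range b b' hY'.w.symm rfl hrB _ hvr hwr
    hz := piece_range i i' hZ'.w.symm rfl hrC _ hzr hur
    hx := hwr ▸ ⟨hx, hx'⟩ }⟩

theorem nonempty_localData_of_coker (hC : Covered i j) (hP : IsPushout i j a b) [IsAffineHom (b ≫ r)]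
    [IsAffineHom j] [Flat j] [Surjective j]
    (hstd : ∀ y : S, ∃ T : S.Opens, IsAffineOpen T ∧ y ∈ T ∧ ∃ V : X.Opens, IsAffineOpen V ∧
      V ≤ (a ≫ r) ⁻¹ᵁ T ∧ ∀ z : Z, (j ≫ b ≫ r).base z ∈ T → i.base z ∈ V)
    (hv : ∀ T : S.affineOpens, @Pinch.CokerProjective Γ(S, T) Γ(Z, (j ≫ b ≫ r) ⁻¹ᵁ T) Γ(Y, (b ≫ r) ⁻¹ᵁ T) _ _ _
      ((j ≫ b ≫ r).app T).hom.toAlgebra (j.app ((b ≫ r) ⁻¹ᵁ T)).hom)
    (hP' : IsPullback πP sP r g) (hX' : IsPullback πX a' a πP) (hY' : IsPullback πY b' b πP)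
    (hZ' : IsPullback πZ i' i πX) (hj₁ : j' ≫ πY = πZ ≫ j) (hj₂ : i' ≫ a' = j' ≫ b') (x : P') :
    Nonempty (LocalData i' j' a' b' x) := by
  obtain ⟨T, hT, hxT, V, hV, hVT, hzV⟩ := hstd (r (πP x))
  have hgx : g (sP x) = r (πP x) := (congr($(hP'.w) x)).symm
  obtain ⟨_, ⟨T', hT', rfl⟩, hxT', hTT'⟩ := S'.isBasis_affineOpens.exists_subset_of_mem_open
    (show sP x ∈ ((g ⁻¹ᵁ T : S'.Opens) : Set S') from (show g (sP x) ∈ T from hgx ▸ hxT)) (g ⁻¹ᵁ T).2
  let e := objIso hC hP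
  obtain ⟨y, hy⟩ := e.hom.surjective (πP x)
  have hw : i ≫ a ≫ r = j ≫ b ≫ r := hP.w_assoc r
  have htr : i ⁻¹ᵁ V = j ⁻¹ᵁ ((b ≫ r) ⁻¹ᵁ T) := by
    refine le_antisymm (fun z h => ?_) fun z h => hzV z h
    show (j ≫ b ≫ r) z ∈ T
    rw [← hw]
    exact hVT h
  have ha : ∀ u, a u = e.hom (inl hC u) := fun u => (congr($(inl_objIso hC hP) u)).symm
  have hb : ∀ v, b v = e.hom (inr hC v) := fun v => (congr($(inr_objIso hC hP) v)).symm
  obtain ⟨c, hxc, hcT, hcase⟩ : ∃ c : Chart i j, y ∈ Set.range (chartι c) ∧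
      Set.range (chartι c) ⊆ ((e.hom ≫ r) ⁻¹ᵁ T : (obj i j).Opens) ∧
      (c.V = (b ≫ r) ⁻¹ᵁ T ∨ i ⁻¹ᵁ c.U = ⊥) := by
    have key : ∀ c : Chart i j, c.U ≤ (a ≫ r) ⁻¹ᵁ T → c.V ≤ (b ≫ r) ⁻¹ᵁ T →
        Set.range (chartι c) ⊆ ((e.hom ≫ r) ⁻¹ᵁ T : (obj i j).Opens) := by
      rintro c hU hV _ ⟨w, rfl⟩
      rcases c.surj w with ⟨u, rfl⟩ | ⟨v, rfl⟩
      · show r (e.hom (chartι c (c.α u))) ∈ T
        rw [← inl_apply hC c u, ← ha]
        exact hU (c.hU.range_fromSpec.subset ⟨u, rfl⟩)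
      · show r (e.hom (chartι c (c.β v))) ∈ T
        rw [← inr_apply hC c v, ← hb]
        exact hV (c.hV.range_fromSpec.subset ⟨v, rfl⟩)
    let c₀ : Chart i j := ⟨V, (b ≫ r) ⁻¹ᵁ T, hV, hT.preimage (b ≫ r), htr⟩
    by_cases h0 : y ∈ Set.range (chartι c₀)
    · exact ⟨c₀, h0, key c₀ hVT le_rfl, .inl rfl⟩
    rcases exists_inl_or_inr hC y with ⟨u, rfl⟩ | ⟨v, rfl⟩
    · have huT : u ∈ (a ≫ r) ⁻¹ᵁ T := by
        show r (a u) ∈ T
        rw [ha, hy]; exact hxT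
      have huV : u ∉ V := fun h => by
        have h' : u ∈ inl hC ⁻¹ᵁ (chartι c₀).opensRange := by rw [preimage_inl hC c₀]; exact h
        exact h0 h'
      have hur : u ∉ Set.range i := by
        rintro ⟨z, rfl⟩
        refine huV (hzV z ?_)
        show (j ≫ b ≫ r) z ∈ T
        rw [← hw]
        exact huT
      obtain ⟨_, ⟨U, hU, rfl⟩, huU, hUs⟩ := X.isBasis_affineOpens.exists_subset_of_mem_open
        (show u ∈ (((a ≫ r) ⁻¹ᵁ T : X.Opens) : Set X) ∩ (Set.range i)ᶜ from ⟨huT, hur⟩)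
        (((a ≫ r) ⁻¹ᵁ T).2.inter i.isClosedEmbedding.isClosed_range.isOpen_compl)
      have hbot : i ⁻¹ᵁ U = ⊥ := by
        ext z
        simp only [TopologicalSpace.Opens.coe_bot, Set.mem_empty_iff_false, iff_false]
        exact fun hz => (hUs hz).2 ⟨z, rfl⟩
      let c₁ : Chart i j := ⟨U, ⊥, hU, isAffineOpen_bot Y, by rw [hbot]; rfl⟩
      have h' : u ∈ inl hC ⁻¹ᵁ (chartι c₁).opensRange := by rw [preimage_inl hC c₁]; exact huU
      exact ⟨c₁, h', key c₁ (fun z hz => (hUs hz).1) bot_le, .inr hbot⟩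
    · have h' : v ∈ inr hC ⁻¹ᵁ (chartι c₀).opensRange := by
        rw [preimage_inr hC c₀]
        show r (b v) ∈ T
        rw [hb, hy]; exact hxT
      exact (h0 h').elim
  let m : c.W ⟶ P := chartι c ≫ e.hom
  obtain ⟨ρ, hρ⟩ := Spec.map_surjective (IsOpenImmersion.lift hT.fromSpec (m ≫ r) (by
    rw [hT.range_fromSpec]
    rintro _ ⟨w, rfl⟩
    exact hcT ⟨w, rfl⟩))
  have hm : m ≫ r = Spec.map ρ ≫ hT.fromSpec := by rw [hρ, IsOpenImmersion.lift_fac]
  let σ := g.appLE T T' hTT'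
  let ρA := ρ ≫ c.g
  let ρB := ρ ≫ c.f
  let ρC := ρA ≫ c.p
  letI := σ.hom.toAlgebra
  letI := ρ.hom.toAlgebra
  letI := ρA.hom.toAlgebra
  letI := ρB.hom.toAlgebra
  letI := ρC.hom.toAlgebra
  have hmA : c.hU.fromSpec ≫ a = Spec.map c.g ≫ m := by
    rw [← inl_objIso hC hP, ← Category.assoc, fromSpec_inl, Category.assoc]
    rfl
  have hmB : c.hV.fromSpec ≫ b = Spec.map c.f ≫ m := by
    rw [← inr_objIso hC hP, ← Category.assoc, fromSpec_inr, Category.assoc]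
    rfl
  have hmC : c.isAffineOpen_trace.fromSpec ≫ i = Spec.map c.p ≫ c.hU.fromSpec :=
    (IsAffineOpen.SpecMap_appLE_fromSpec i c.hU c.isAffineOpen_trace le_rfl).symm
  have hmCj : c.isAffineOpen_trace.fromSpec ≫ j = Spec.map c.q ≫ c.hV.fromSpec :=
    (IsAffineOpen.SpecMap_appLE_fromSpec j c.hV c.isAffineOpen_trace c.trace.le).symm
  have hA : c.hU.fromSpec ≫ a ≫ r = Spec.map ρA ≫ hT.fromSpec := by
    rw [reassoc_of% hmA, hm, ← Category.assoc, ← Spec.map_comp]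
  have hB : c.hV.fromSpec ≫ b ≫ r = Spec.map ρB ≫ hT.fromSpec := by
    rw [reassoc_of% hmB, hm, ← Category.assoc, ← Spec.map_comp]
  have hCm : c.isAffineOpen_trace.fromSpec ≫ i ≫ a ≫ r = Spec.map ρC ≫ hT.fromSpec := by
    rw [reassoc_of% hmC, hA, ← Category.assoc, ← Spec.map_comp]
  haveI : IsOpenImmersion m := inferInstanceAs (IsOpenImmersion (chartι c ≫ e.hom))
  let fA : c.ring →ₐ[Γ(S, T)] Γ(X, c.U) := { c.g.hom with commutes' := fun _ => rfl }
  let fB : c.ring →ₐ[Γ(S, T)] Γ(Y, c.V) := { c.f.hom with commutes' := fun _ => rfl }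
  let fp : Γ(X, c.U) →ₐ[Γ(S, T)] Γ(Z, i ⁻¹ᵁ c.U) := { c.p.hom with commutes' := fun _ => rfl }
  let fq : Γ(Y, c.V) →ₐ[Γ(S, T)] Γ(Z, i ⁻¹ᵁ c.U) :=
    { c.q.hom with commutes' := fun r => c.w (ρ r) }
  have hsq : Misc6.FibreSquare fB.toRingHom fA.toRingHom fq.toRingHom fp.toRingHom := c.fibreSquare
  have hxm : πP x ∈ Set.range m := by
    obtain ⟨w₀, hw₀⟩ := hxc
    exact ⟨w₀, (congrArg e.hom hw₀).trans hy⟩
  have hten := by
    refine (?_ : Misc6.FibreSquare (Algebra.TensorProduct.map fB (AlgHom.id Γ(S, T) Γ(S', T'))).toRingHom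
      (Algebra.TensorProduct.map fA (AlgHom.id Γ(S, T) Γ(S', T'))).toRingHom
      (Algebra.TensorProduct.map fq (AlgHom.id Γ(S, T) Γ(S', T'))).toRingHom
      (Algebra.TensorProduct.map fp (AlgHom.id Γ(S, T) Γ(S', T'))).toRingHom)
    rcases hcase with hcV | hbot
    · have hW : i ⁻¹ᵁ c.U = (j ≫ b ≫ r) ⁻¹ᵁ T := by
        rw [c.trace, hcV]; rfl
      have hρC : ρC = (j ≫ b ≫ r).appLE T (i ⁻¹ᵁ c.U) hW.le := by
        apply Spec.map_injective
        rw [← cancel_mono hT.fromSpec, ← hCm, hw,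
          IsAffineOpen.SpecMap_appLE_fromSpec (j ≫ b ≫ r) hT c.isAffineOpen_trace hW.le]
      have hgen : ∀ (VY : Y.Opens) (W : Z.Opens) (hVY : VY = (b ≫ r) ⁻¹ᵁ T) (hW : W = (j ≫ b ≫ r) ⁻¹ᵁ T)
          (e : W ≤ j ⁻¹ᵁ VY), Function.Injective (j.appLE VY W e).hom ∧
          @Pinch.CokerProjective Γ(S, T) Γ(Z, W) Γ(Y, VY) _ _ _
            ((j ≫ b ≫ r).appLE T W hW.le).hom.toAlgebra (j.appLE VY W e).hom := by
        intro VY W hVY hW e
        subst hVY hW
        have hje : j.appLE ((b ≫ r) ⁻¹ᵁ T) ((j ≫ b ≫ r) ⁻¹ᵁ T) e = j.app ((b ≫ r) ⁻¹ᵁ T) :=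
          Scheme.Hom.appLE_eq_app _
        refine ⟨(injective_iff_map_eq_zero _).2 fun y hy =>
          GrothLib.RingedPush4.appLE_injective_of_flat_surjective j _ y ?_, ?_⟩
        · rw [← hje]; exact hy
        · rw [hje, Scheme.Hom.appLE_eq_app]
          exact hv ⟨T, hT⟩
      obtain ⟨hinj, hpr⟩ := hgen c.V (i ⁻¹ᵁ c.U) hcV hW c.trace.le
      have hproj : Module.Projective Γ(S, T) (Γ(Z, i ⁻¹ᵁ c.U) ⧸ LinearMap.range fq.toLinearMap) := by
        have h1 : @Pinch.CokerProjective Γ(S, T) Γ(Z, i ⁻¹ᵁ c.U) Γ(Y, c.V) _ _ _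
            ρC.hom.toAlgebra c.q.hom := by rw [hρC]; exact hpr
        have e1 : Submodule.span Γ(S, T) (Set.range c.q.hom) = LinearMap.range fq.toLinearMap :=
          le_antisymm (Submodule.span_le.2 (by rintro _ ⟨z, rfl⟩; exact ⟨z, rfl⟩))
            (by rintro _ ⟨z, rfl⟩; exact Submodule.subset_span ⟨z, rfl⟩)
        haveI : Module.Projective Γ(S, T) (Γ(Z, i ⁻¹ᵁ c.U) ⧸ Submodule.span Γ(S, T) (Set.range c.q.hom)) := h1
        exact Module.Projective.of_equiv (Submodule.quotEquivOfEq _ _ e1)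
      obtain ⟨s, hs⟩ := exists_section_diff (q := fq) (p := fp) c.p_surjective hinj
      exact fibreSquare_tensor_of_section hsq Γ(S', T') s hs
    · have : Subsingleton Γ(Z, i ⁻¹ᵁ c.U) := by rw [hbot]; infer_instance
      exact fibreSquare_tensor hsq Γ(S', T') (.inr inferInstance)
  exact localData_of_sq r g hP' hX' hY' hZ' hj₁ hj₂ hT hT' hTT' rfl fA fB fq fp hten m
    c.hU.fromSpec c.hV.fromSpec c.isAffineOpen_trace.fromSpec hm hmA hmB hmC hmCj
    ((preimage_range_left hC hP c).trans c.hU.range_fromSpec.symm)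
    ((preimage_range_right hC hP c).trans c.hV.range_fromSpec.symm)
    (by rw [IsAffineOpen.range_fromSpec, IsAffineOpen.range_fromSpec]; rfl) x hxm hxT'


theorem isPushout_baseChange_of_coker (hC : Covered i j) (hP : IsPushout i j a b) [IsAffineHom (b ≫ r)]
    [IsAffineHom j] [Flat j] [Surjective j]
    (hstd : ∀ y : S, ∃ T : S.Opens, IsAffineOpen T ∧ y ∈ T ∧ ∃ V : X.Opens, IsAffineOpen V ∧
      V ≤ (a ≫ r) ⁻¹ᵁ T ∧ ∀ z : Z, (j ≫ b ≫ r).base z ∈ T → i.base z ∈ V)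
    (hv : ∀ T : S.affineOpens, @Pinch.CokerProjective Γ(S, T) Γ(Z, (j ≫ b ≫ r) ⁻¹ᵁ T) Γ(Y, (b ≫ r) ⁻¹ᵁ T) _ _ _
      ((j ≫ b ≫ r).app T).hom.toAlgebra (j.app ((b ≫ r) ⁻¹ᵁ T)).hom)
    (hP' : IsPullback πP sP r g) (hX' : IsPullback πX a' a πP) (hY' : IsPullback πY b' b πP)
    (hZ' : IsPullback πZ i' i πX) (hj₁ : j' ≫ πY = πZ ≫ j) (hj₂ : i' ≫ a' = j' ≫ b') :
    IsPushout i' j' a' b' := by
  haveI : IsClosedImmersion i' := MorphismProperty.of_isPullback hZ' ‹_›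
  haveI : IsAffineHom a := prop_left @IsAffineHom hC hP (isAffineHom_inl hC)
  haveI : IsClosedImmersion b := isClosedImmersion_right hC hP
  haveI : IsAffineHom a' := MorphismProperty.of_isPullback hX' ‹_›
  haveI : IsAffineHom b' := MorphismProperty.of_isPullback hY' inferInstance
  exact isPushout_of_local hj₂ (nonempty_localData_of_coker r g hC hP hstd hv hP' hX' hY' hZ' hj₁ hj₂)

end

end GrothLib.Pushout6
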